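import Cfsg.Agent.Lib.TransitiveLinear.Large
import Cfsg.Agent.Lib.TransitiveLinear.Two
import Cfsg.Prelude.Def_Transfer

/-!
Solvable transitive linear groups whose vector stabilisers are groups of the characteristic:
normal complement and abelian Sylow subgroups.
-/

set_option autoImplicit false
set_option linter.unusedSectionVars false
set_option linter.style.haveILetI false

namespace CfsgLib.TwoNonzeroClasses

open CfsgLib.TransitiveLinear

/-- A normal subgroup of order prime to `q` with a `q`-power index is a normal `q`-complement. -/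
theorem complement_of {G : Type*} [Group G] [Finite G] (q : ℕ) [Fact q.Prime] (N : Subgroup G) [hN : N.Normal]
    (h1 : ¬ q ∣ Nat.card N) (h2 : ∀ r : ℕ, r.Prime → r ∣ N.index → r = q) :
    Cfsg.HasNormalPComplement q G := by
  have P : Sylow q G := default
  refine ⟨P, N, hN, Subgroup.isComplement'_of_coprime ?_ ?_⟩
  · have e1 : N.index = q ^ (N.index.primeFactorsList.length) :=
      Nat.eq_prime_pow_of_unique_prime_dvd Subgroup.index_ne_zero_of_finite fun {d} hd hdd => h2 d hd hdd
    have hidx := congrArg (fun n => n.factorization q) N.card_mul_index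
    simp only [Nat.factorization_mul Nat.card_pos.ne' Subgroup.index_ne_zero_of_finite, Finsupp.add_apply] at hidx
    rw [Nat.factorization_eq_zero_of_not_dvd h1, zero_add] at hidx
    rw [P.card_eq_multiplicity, ← hidx, e1, Nat.Prime.factorization_pow (Fact.out : q.Prime),
      Finsupp.single_eq_same, ← e1, N.card_mul_index]
  · rw [P.card_eq_multiplicity]
    exact (((Fact.out : q.Prime).coprime_iff_not_dvd.2 h1).pow_left _).symm

variable {q : ℕ} [hq : Fact q.Prime] {V : Type*} [AddCommGroup V] [Module (ZMod q) V] [Finite V] [Nontrivial V]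
  {G : Type*} [Group G] [Finite G] {ρ : G →* (V ≃ₗ[ZMod q] V)}

theorem ringAut_comm {F : Type*} [Field F] [Finite F] (σ τ : F ≃+* F) (x : F) : σ (τ x) = τ (σ x) := by
  haveI : CharP F (ringChar F) := ringChar.charP F
  haveI : Fact (ringChar F).Prime := ⟨CharP.char_is_prime F _⟩
  letI : Algebra (ZMod (ringChar F)) F := ZMod.algebra F _
  have key : ∀ (f : F ≃+* F) (z : ZMod (ringChar F)), f (algebraMap _ F z) = algebraMap _ F z := fun f z => by
    rw [← ZMod.natCast_zmod_val z, map_natCast, map_natCast]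
  let A : F ≃ₐ[ZMod (ringChar F)] F := AlgEquiv.ofRingEquiv (f := σ) (key σ)
  let B : F ≃ₐ[ZMod (ringChar F)] F := AlgEquiv.ofRingEquiv (f := τ) (key τ)
  have h : A * B = B * A := IsCyclic.commGroup.mul_comm A B
  exact AlgEquiv.congr_fun h x

/-- The semilinear case. -/
theorem semi_case (hρ : Function.Injective ρ) (h : CfsgLib.RegularLinear.Semi ρ) :
    Cfsg.HasNormalPComplement q G ∧ ∀ Q : Sylow q G, IsMulCommutative (Q : Subgroup G) := by
  classical
  obtain ⟨F, _, _, e, he⟩ := h
  choose a σ hσ using he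
  have hF : (q : F) = 0 := by
    have h : q • e.symm 1 = 0 := by
      rw [← Nat.cast_smul_eq_nsmul (ZMod q), ZMod.natCast_self, zero_smul]
    have h' := congrArg e h
    rw [map_nsmul, e.apply_symm_apply, map_zero, nsmul_one] at h'
    exact h'
  haveI : CharP F q := CharP.charP_iff_prime_eq_zero hq.out |>.2 hF
  have ha : ∀ g, a g ≠ 0 := fun g h0 => by
    have h1 := hσ g (e.symm 1)
    rw [h0, zero_mul, ← map_zero e] at h1
    have h2 := (ρ g).map_eq_zero_iff.1 (e.injective h1)
    exact one_ne_zero ((e.apply_symm_apply (1 : F)).symm.trans (by rw [h2, map_zero]))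
  have hmul : ∀ g g' x, σ (g * g') x = σ g (σ g' x) := fun g g' x => by
    have key : ∀ y, a (g * g') * σ (g * g') y = a g * σ g (a g') * σ g (σ g' y) := fun y => by
      have h1 := hσ (g * g') (e.symm y)
      rw [map_mul, LinearEquiv.mul_apply, hσ g, hσ g', e.apply_symm_apply, map_mul] at h1
      rw [← h1, mul_assoc]
    have h1 := key 1
    rw [map_one, map_one, map_one, mul_one, mul_one] at h1
    have h2 := key x
    rw [← h1] at h2
    exact mul_left_cancel₀ (ha _) h2
  let φ : G →* (F ≃+* F) := MonoidHom.mk' σ fun g g' => RingEquiv.ext (hmul g g')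
  have hker : ∀ g, φ g = 1 → g ^ q = 1 → g = 1 := by
    intro g h1 h2
    have hap : ∀ (j : ℕ) (v : V), e (ρ (g ^ j) v) = a g ^ j * e v := fun j => by
      induction j with
      | zero => intro v; simp
      | succ j ih =>
        intro v
        rw [pow_succ, map_mul, LinearEquiv.mul_apply, ih, hσ, show σ g = 1 from h1]
        show a g ^ j * (a g * e v) = _
        rw [pow_succ, mul_assoc]
    have h3 := hap q (e.symm 1)
    rw [h2, map_one, e.apply_symm_apply, mul_one] at h3
    have h3' : (1 : F) = a g ^ q := (e.apply_symm_apply (1 : F)).symm.trans h3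
    have h4 : a g = 1 := by
      have h5 : (a g - 1) ^ q = 0 := by rw [sub_pow_char, one_pow, ← h3', sub_self]
      exact sub_eq_zero.1 (pow_eq_zero_iff hq.out.ne_zero |>.1 h5)
    refine hρ (LinearEquiv.ext fun v => e.injective ?_)
    have := hap 1 v
    rw [pow_one, pow_one, h4, one_mul] at this
    rw [this, map_one]; rfl
  have hcomm : ∀ g g', φ g * φ g' = φ g' * φ g := fun g g' => RingEquiv.ext (ringAut_comm (σ g) (σ g'))
  let N : Subgroup G :=
    { carrier := {g | ∃ m : ℕ, ¬ q ∣ m ∧ φ g ^ m = 1}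
      one_mem' := ⟨1, hq.out.not_dvd_one, by rw [map_one, one_pow]⟩
      mul_mem' := by
        rintro x y ⟨m, hm, hx⟩ ⟨m', hm', hy⟩
        refine ⟨m * m', fun h => (hq.out.dvd_mul.1 h).elim hm hm', ?_⟩
        rw [map_mul, (show Commute (φ x) (φ y) from hcomm x y).mul_pow, pow_mul, hx, one_pow, one_mul, mul_comm m,
          pow_mul, hy, one_pow]
      inv_mem' := by
        rintro x ⟨m, hm, hx⟩
        exact ⟨m, hm, by rw [map_inv, inv_pow, hx, inv_one]⟩ }
  haveI : N.Normal := ⟨fun n hn g => by
    obtain ⟨m, hm, hn⟩ := hn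
    refine ⟨m, hm, ?_⟩
    rw [map_mul, map_mul, hcomm g n, map_inv, mul_inv_cancel_right, hn]⟩
  refine ⟨complement_of q N (fun hd => ?_) fun r hr hrd => ?_, fun Q => ?_⟩
  · obtain ⟨⟨g, m, hm, hg⟩, ho⟩ := exists_prime_orderOf_dvd_card' q hd
    have hg1 : g ^ q = 1 := by
      have := congrArg Subtype.val (ho ▸ pow_orderOf_eq_one (⟨g, m, hm, hg⟩ : N))
      simpa using this
    have h1 : φ g = 1 := by
      rw [← orderOf_eq_one_iff]
      refine Nat.eq_one_of_dvd_coprimes (hq.out.coprime_iff_not_dvd.2 hm)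
        (orderOf_dvd_of_pow_eq_one (by rw [← map_pow, hg1, map_one])) (orderOf_dvd_of_pow_eq_one hg)
    have := hker g h1 hg1
    subst this
    rw [show (⟨1, m, hm, hg⟩ : N) = 1 from rfl, orderOf_one] at ho
    exact hq.out.ne_one ho.symm
  · by_contra hne
    haveI : Fact r.Prime := ⟨hr⟩
    obtain ⟨R⟩ := (inferInstance : Nonempty (Sylow r G))
    have hle : (R : Subgroup G) ≤ N := fun x hx => by
      obtain ⟨j, hj⟩ := R.isPGroup' ⟨x, hx⟩
      refine ⟨r ^ j, fun h => hne ((Nat.prime_dvd_prime_iff_eq hq.out hr).1 (hq.out.dvd_of_dvd_pow h)).symm, ?_⟩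
      rw [← map_pow, show x ^ r ^ j = 1 by simpa using congrArg Subtype.val hj, map_one]
    exact R.not_dvd_index ((hrd).trans (Subgroup.index_dvd_of_le hle))
  · refine ⟨⟨fun x y => Subtype.ext ?_⟩⟩
    have h1 : φ ((x : G) * y * (x : G)⁻¹ * (y : G)⁻¹) = 1 := by
      rw [map_mul, map_mul, map_mul, hcomm x y, map_inv, map_inv, mul_inv_cancel_right, mul_inv_cancel]
    by_contra hne
    let z : (Q : Subgroup G) := x * y * x⁻¹ * y⁻¹
    obtain ⟨j, hj⟩ := Q.isPGroup' z
    have hz : ∀ j (g : G), φ g = 1 → g ^ q ^ j = 1 → g = 1 := by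
      intro j
      induction j with
      | zero => intro g _ hg; simpa using hg
      | succ j ih =>
        intro g hg1 hg
        rw [pow_succ, pow_mul] at hg
        exact ih g hg1 (hker _ (by rw [map_pow, hg1, one_pow]) hg)
    have h3 := hz j (z : G) (by simpa [z] using h1) (by simpa using congrArg Subtype.val hj)
    refine hne ?_
    have h4 : (x : G) * y * (x : G)⁻¹ * (y : G)⁻¹ = 1 := by simpa [z] using h3
    show (x : G) * y = y * x
    rw [mul_inv_eq_one, mul_inv_eq_iff_eq_mul] at h4
    exact h4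

section Core

variable (hρ : Function.Injective ρ) (htrans : ∀ v w : V, v ≠ 0 → w ≠ 0 → ∃ g : G, ρ g v = w)
  (hst : ∀ v : V, v ≠ 0 → ∀ g : G, ρ g v = v → ∃ j : ℕ, g ^ q ^ j = 1)
include hρ htrans hst

/-- The order of the group is `(q ^ n - 1)` times a power of `q`. -/
theorem card_eq : ∃ a : ℕ, Nat.card G = (q ^ Module.finrank (ZMod q) V - 1) * q ^ a := by
  classical
  obtain ⟨v, hv⟩ := exists_ne (0 : V)
  let f : G ⧸ vecStab ρ v → {w : V // w ≠ 0} := fun u => Quotient.liftOn' u
    (fun g => ⟨ρ g v, fun h => hv ((ρ g).map_eq_zero_iff.mp h)⟩) fun x y h => by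
      rw [QuotientGroup.leftRel_apply] at h
      refine Subtype.ext ?_
      show ρ x v = ρ y v
      conv_lhs => rw [← show ρ (x⁻¹ * y) v = v from h]
      rw [← LinearEquiv.mul_apply, ← map_mul, mul_inv_cancel_left]
  have hf : Function.Bijective f := by
    refine ⟨fun u w e => ?_, fun w => ?_⟩
    · induction u using Quotient.inductionOn' with
      | h x =>
        induction w using Quotient.inductionOn' with
        | h y =>
          refine QuotientGroup.eq.mpr ?_
          have e' : ρ x v = ρ y v := congrArg Subtype.val e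
          show ρ (x⁻¹ * y) v = v
          rw [map_mul, LinearEquiv.mul_apply, ← e', ← LinearEquiv.mul_apply, ← map_mul, inv_mul_cancel, map_one]
          rfl
    · obtain ⟨g, hg⟩ := htrans v w hv w.2
      exact ⟨QuotientGroup.mk g, Subtype.ext hg⟩
  haveI : Fintype V := Fintype.ofFinite V
  have hp : IsPGroup q (vecStab ρ v) := fun g => by
    obtain ⟨j, hj⟩ := hst v hv g g.2
    exact ⟨j, Subtype.ext (by simpa using hj)⟩
  obtain ⟨a, ha⟩ := IsPGroup.iff_card.1 hp
  refine ⟨a, ?_⟩
  rw [← (vecStab ρ v).card_mul_index, ha, Subgroup.index_eq_card, Nat.card_eq_of_bijective f hf,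
    Nat.card_eq_fintype_card, Fintype.card_subtype_compl, Fintype.card_subtype_eq, ← Nat.card_eq_fintype_card,
    Module.natCard_eq_pow_finrank (K := ZMod q) (V := V), Nat.card_zmod, mul_comm]

/-- The cores for other primes are fixed point free. -/
theorem fpf {r : ℕ} (hr : r.Prime) (hrq : r ≠ q) (b : G) (hb : b ∈ Cfsg.pCore r G) (v : V) (hv : v ≠ 0)
    (h : ρ b v = v) : b = 1 := by
  obtain ⟨j, hj⟩ := hst v hv b h
  obtain ⟨i, hi⟩ := (CfsgLib.isPGroup_pCore r (G := G)) ⟨b, hb⟩
  rw [← orderOf_eq_one_iff]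
  exact Nat.eq_one_of_dvd_coprimes (((Nat.coprime_primes hr hq.out).2 hrq).pow i j)
    (orderOf_dvd_of_pow_eq_one (by simpa using congrArg Subtype.val hi)) (orderOf_dvd_of_pow_eq_one hj)

theorem card_core_dvd {r : ℕ} (hr : r.Prime) (hrq : r ≠ q) :
    Nat.card (Cfsg.pCore r G) ∣ q ^ Module.finrank (ZMod q) V - 1 := by
  classical
  set P := Cfsg.pCore r G
  letI : MulAction P {w : V // w ≠ 0} :=
    { smul := fun b w => ⟨ρ (b : G) w, fun h => w.2 ((ρ (b : G)).map_eq_zero_iff.mp h)⟩
      one_smul := fun w => Subtype.ext (by show ρ ((1 : P) : G) w.1 = w.1; rw [Subgroup.coe_one, map_one]; rfl)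
      mul_smul := fun b c w => Subtype.ext (by
        show ρ ((b * c : P) : G) w.1 = ρ (b : G) (ρ (c : G) w.1)
        rw [Subgroup.coe_mul, map_mul]; rfl) }
  have hstab : ∀ w : {w : V // w ≠ 0}, MulAction.stabilizer P w = ⊥ := fun w =>
    (Subgroup.eq_bot_iff_forall _).2 fun b hb => Subtype.ext
      (fpf hρ htrans hst hr hrq b b.2 w w.2 (congrArg Subtype.val (hb : b • w = w)))
  haveI : Fintype (MulAction.orbitRel.Quotient P {w : V // w ≠ 0}) := Fintype.ofFinite _
  have h := Nat.card_congr (MulAction.selfEquivSigmaOrbits P {w : V // w ≠ 0})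
  rw [Nat.card_sigma] at h
  have ho : ∀ w : {w : V // w ≠ 0}, Nat.card (MulAction.orbit P w) = Nat.card P := fun w => by
    rw [Nat.card_congr (MulAction.orbitEquivQuotientStabilizer P w), hstab, ← Subgroup.index_eq_card,
      Subgroup.index_bot]
  have hc : Nat.card {w : V // w ≠ 0} = q ^ Module.finrank (ZMod q) V - 1 := by
    haveI : Fintype V := Fintype.ofFinite V
    rw [Nat.card_eq_fintype_card, Fintype.card_subtype_compl, Fintype.card_subtype_eq, ← Nat.card_eq_fintype_card,
      Module.natCard_eq_pow_finrank (K := ZMod q) (V := V), Nat.card_zmod]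
  rw [← hc, h]
  exact Finset.dvd_sum fun ω _ => dvd_of_eq (ho _).symm

/-- An involution in such a core is `-1`. -/
theorem involution_eq {r : ℕ} (hr : r.Prime) (hrq : r ≠ q) (z : G) (hz : z ∈ Cfsg.pCore r G) (hz2 : z * z = 1)
    (hz1 : z ≠ 1) (v : V) : ρ z v = -v := by
  have hfix : ρ z (ρ z v + v) = ρ z v + v := by
    rw [map_add, ← LinearEquiv.mul_apply, ← map_mul, hz2, map_one, add_comm]; rfl
  by_contra hne
  exact hz1 (fpf hρ htrans hst hr hrq z hz _ (fun h => hne (eq_neg_of_add_eq_zero_left h)) hfix)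

/-- Fixed points of an element of prime order on a core. -/
theorem core_count {r : ℕ} [Fact r.Prime] (hrq : r ≠ q) (x : G) {p : ℕ} [Fact p.Prime] (hx : x ^ p = 1) :
    ∃ e d : ℕ, Nat.card (Cfsg.pCore r G) = r ^ e ∧ r ^ e ∣ q ^ Module.finrank (ZMod q) V - 1 ∧ d ≤ e ∧
      r ^ e ≡ r ^ d [MOD p] ∧ (d = e → ∀ b ∈ Cfsg.pCore r G, x * b = b * x) ∧
      (r = 2 → 1 ≤ e → 1 ≤ d) ∧
      Nat.card ((Subgroup.centralizer ({x} : Set G)).subgroupOf (Cfsg.pCore r G)) = r ^ d := by
  classical
  set P := Cfsg.pCore r G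
  haveI : P.Normal := by infer_instance
  obtain ⟨e, he⟩ := (CfsgLib.isPGroup_pCore r (G := G)).exists_card_eq
  let σ : MulAut P := restrictConj P x fun b hb => Subgroup.Normal.conj_mem inferInstance b hb x
  have hσp : IsPGroup p (Subgroup.zpowers σ) := by
    have h7 : orderOf σ ∣ p := orderOf_dvd_of_pow_eq_one (MulEquiv.ext fun b => Subtype.ext (by
      have hp : ∀ j : ℕ, (((σ ^ j) b : P) : G) = x ^ j * b * (x ^ j)⁻¹ := fun j => by
        induction j with
        | zero => simp
        | succ j ih => rw [pow_succ', MulAut.mul_apply, restrictConj_coe, ih, pow_succ']; group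
      rw [hp, hx]; simp))
    obtain ⟨j, -, hj⟩ := (Nat.dvd_prime_pow (Fact.out : p.Prime)).mp
      (show orderOf σ ∣ p ^ 1 by rwa [pow_one])
    exact IsPGroup.of_card (n := j) (by rw [Nat.card_zpowers, hj])
  let Fx : Subgroup P := Subgroup.centralizer ({x} : Set G) |>.subgroupOf P
  have hfix : Nat.card P ≡ Nat.card Fx [MOD p] := by
    have h := hσp.card_modEq_card_fixedPoints P
    have h2 : Nat.card (MulAction.fixedPoints (Subgroup.zpowers σ) P) = Nat.card Fx := by
      refine Nat.card_congr (Equiv.subtypeEquivRight fun b => ?_)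
      rw [Subgroup.mem_subgroupOf, Subgroup.mem_centralizer_singleton_iff]
      constructor
      · intro hb
        have := congrArg Subtype.val (hb ⟨σ, Subgroup.mem_zpowers σ⟩)
        change x * (b : G) * x⁻¹ = b at this
        exact (mul_inv_eq_iff_eq_mul.mp this).symm
      · rintro hb ⟨g, hg⟩
        have hσb : σ b = b := Subtype.ext (mul_inv_eq_iff_eq_mul.mpr hb.symm)
        have : σ ∈ MulAction.stabilizer (MulAut P) b := hσb
        exact Subgroup.zpowers_le.mpr this hg
    rwa [h2] at h
  obtain ⟨d, hd, hd'⟩ := (Nat.dvd_prime_pow (Fact.out : r.Prime)).mp (he ▸ Fx.card_subgroup_dvd_card)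
  refine ⟨e, d, he, he ▸ card_core_dvd hρ htrans hst Fact.out hrq, hd, by rwa [he, hd'] at hfix, fun hde b hb => ?_,
    fun hr2 he1 => ?_, hd'⟩
  · have := Subgroup.eq_top_of_card_eq Fx (by rw [he, hd', hde])
    have hb' : (⟨b, hb⟩ : P) ∈ Fx := this ▸ Subgroup.mem_top _
    exact (Subgroup.mem_centralizer_singleton_iff.mp (Subgroup.mem_subgroupOf.mp hb')).symm
  · subst hr2
    obtain ⟨z, hz⟩ := exists_prime_orderOf_dvd_card' 2 (show 2 ∣ Nat.card P from he ▸ dvd_pow_self 2 (by omega))
    have hzx : z ∈ Fx := by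
      rw [Subgroup.mem_subgroupOf, Subgroup.mem_centralizer_singleton_iff]
      have hz2 : (z : G) * z = 1 := by
        have := congrArg Subtype.val (hz ▸ pow_orderOf_eq_one z)
        simpa [pow_two] using this
      have hz1 : (z : G) ≠ 1 := fun h => by
        rw [OneMemClass.coe_eq_one] at h
        simp [h] at hz
      refine hρ (LinearEquiv.ext fun v => ?_)
      rw [map_mul, map_mul, LinearEquiv.mul_apply, LinearEquiv.mul_apply,
        involution_eq hρ htrans hst Fact.out hrq _ z.2 hz2 hz1,
        involution_eq hρ htrans hst Fact.out hrq _ z.2 hz2 hz1, map_neg]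
    by_contra h0
    rw [show d = 0 by omega, pow_zero] at hd'
    have := Subgroup.eq_bot_of_card_eq Fx hd'
    rw [this, Subgroup.mem_bot] at hzx
    simp [hzx] at hz

/-- An element of prime order `p` with trivial `p`-core moves some core. -/
theorem exists_moved [Group.IsSolvable G] {p : ℕ} (hp : p.Prime) (hO : Cfsg.pCore p G = ⊥) (x : G)
    (hx : orderOf x = p) : ∃ r : ℕ, r.Prime ∧ r ∣ q ^ Module.finrank (ZMod q) V - 1 ∧ r ≠ q ∧ r ≠ p ∧
      ¬ ∀ b ∈ Cfsg.pCore r G, x * b = b * x := by
  classical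
  haveI : Fact p.Prime := ⟨hp⟩
  by_contra hall
  push Not at hall
  have hcore : ∀ s : Nat.Primes, ∀ b ∈ Cfsg.pCore (s : ℕ) G, x * b = b * x := by
    intro s b hb
    by_cases hsq : (s : ℕ) = q
    · rw [hsq, pCore_eq_bot hρ htrans, Subgroup.mem_bot] at hb
      simp [hb]
    by_cases hsp : (s : ℕ) = p
    · rw [hsp, hO, Subgroup.mem_bot] at hb
      simp [hb]
    by_cases hsd : (s : ℕ) ∣ q ^ Module.finrank (ZMod q) V - 1
    · exact hall _ s.2 hsd hsq hsp b hb
    · haveI : Fact (s : ℕ).Prime := ⟨s.2⟩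
      obtain ⟨e, he⟩ := (CfsgLib.isPGroup_pCore (s : ℕ) (G := G)).exists_card_eq
      have he0 : e = 0 := by
        by_contra hne
        exact hsd ((dvd_pow_self _ hne).trans (he ▸ card_core_dvd hρ htrans hst s.2 hsq))
      rw [Subgroup.eq_bot_of_card_eq (Cfsg.pCore (s : ℕ) G) (by rw [he, he0, pow_zero]), Subgroup.mem_bot] at hb
      simp [hb]
  set F := Cfsg.fittingSubgroup G
  haveI : F.Normal := by
    change (Cfsg.fittingSubgroup G).Normal
    infer_instance
  have hF : F ≤ Subgroup.centralizer ({x} : Set G) := by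
    change Cfsg.fittingSubgroup G ≤ _
    rw [CfsgLib.fittingSubgroup_eq_iSup_pCore]
    exact iSup_le fun s => fun b hb => Subgroup.mem_centralizer_singleton_iff.mpr (hcore s b hb).symm
  set A := Subgroup.centralizer (F : Set G)
  have hA : ∀ a ∈ A, ∀ b ∈ A, a * b = b * a := fun a ha b hb =>
    (Subgroup.mem_centralizer_iff.mp ha b (CfsgLib.centralizer_fitting_le hb)).symm
  have hxA : x ∈ A := Subgroup.mem_centralizer_iff.mpr fun b hb => Subgroup.mem_centralizer_singleton_iff.mp (hF hb)
  haveI : A.Normal := Subgroup.normal_centralizer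
  let T : Subgroup G :=
    { carrier := {g | g ∈ A ∧ g ^ p = 1}
      one_mem' := ⟨one_mem _, one_pow p⟩
      mul_mem' := fun {a b} ha hb => ⟨mul_mem ha.1 hb.1, by
        rw [(show Commute a b from hA a ha.1 b hb.1).mul_pow, ha.2, hb.2, one_mul]⟩
      inv_mem' := fun {a} ha => ⟨inv_mem ha.1, by rw [inv_pow, ha.2, inv_one]⟩ }
  haveI : T.Normal := ⟨fun n hn g => ⟨(inferInstance : A.Normal).conj_mem n hn.1 g, by
    rw [conj_pow, hn.2, mul_one, mul_inv_cancel]⟩⟩
  have hT : IsPGroup p T := fun g => ⟨1, Subtype.ext (by simpa using g.2.2)⟩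
  have := CfsgLib.le_pCore hT (show x ∈ T from ⟨hxA, hx ▸ pow_orderOf_eq_one x⟩)
  rw [hO, Subgroup.mem_bot] at this
  rw [this, orderOf_one] at hx
  exact hp.ne_one hx.symm

end Core

/-- No group of order sixteen with a single involution has an automorphism of order seven
with two fixed points. -/
theorem no_seven {P : Type*} [Group P] [Finite P] (hc : Nat.card P = 16) (z : P) (hzu : ∀ y : P, y * y = 1 → y = 1 ∨ y = z)
    (hz1 : z ≠ 1) (hzz : z * z = 1) (σ : MulAut P) (hσ : σ ^ 7 = 1) (hfix : ∀ y, σ y = y → y = 1 ∨ y = z) : False := by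
  classical
  haveI : Fintype P := Fintype.ofFinite P
  haveI : Fact (Nat.Prime 7) := ⟨by norm_num⟩
  haveI : Fact (Nat.Prime 2) := ⟨Nat.prime_two⟩
  set S : Finset P := Finset.univ.filter (fun y => y * y = z) with hS
  have hσz : σ z = z := by
    rcases hzu (σ z) (by rw [← map_mul, hzz, map_one]) with h | h
    · exact absurd (σ.injective (h.trans (map_one σ).symm)) hz1
    · exact h
  have hSσ : ∀ y, σ.toEquiv y ∈ S ↔ y ∈ S := fun y => by
    simp only [hS, Finset.mem_filter, Finset.mem_univ, true_and]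
    show σ y * σ y = z ↔ y * y = z
    rw [← map_mul]
    exact ⟨fun h => σ.injective (h.trans hσz.symm), fun h => h.symm ▸ hσz⟩
  let τ : Equiv.Perm {y // y ∈ S} := Equiv.Perm.subtypePerm (σ.toEquiv : Equiv.Perm P) hSσ
  have hτp : τ ^ 7 ^ 1 = 1 := by
    refine Equiv.ext fun y => Subtype.ext ?_
    have : ∀ j : ℕ, ((τ ^ j) y : P) = (σ ^ j) (y : P) := fun j => by
      induction j with
      | zero => simp
      | succ j ih => rw [pow_succ', Equiv.Perm.mul_apply, pow_succ', MulAut.mul_apply, ← ih]; rfl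
    rw [this, pow_one, hσ]; rfl
  have h7 := Equiv.Perm.card_compl_support_modEq (n := 1) (p := 7) hτp
  have hsupp : τ.supportᶜ = ∅ := by
    refine Finset.eq_empty_of_forall_notMem fun y hy => ?_
    rw [Finset.mem_compl, Equiv.Perm.mem_support, not_not] at hy
    have hy2 := y.2
    simp only [hS, Finset.mem_filter, Finset.mem_univ, true_and] at hy2
    rcases hfix y.1 (congrArg Subtype.val hy) with h | h
    · rw [h, one_mul] at hy2; exact hz1 hy2.symm
    · rw [h, hzz] at hy2; exact hz1 hy2.symm
  rw [hsupp, Finset.card_empty] at h7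
  have h7' : 7 ∣ Fintype.card {y // y ∈ S} := (Nat.modEq_zero_iff_dvd).1 h7.symm
  -- inversion pairs the elements
  let ι : Equiv.Perm {y // y ∈ S} :=
    { toFun := fun y => ⟨y.1⁻¹, by
        have := y.2
        simp only [hS, Finset.mem_filter, Finset.mem_univ, true_and] at this ⊢
        rw [← mul_inv_rev, this]
        exact inv_eq_of_mul_eq_one_right hzz⟩
      invFun := fun y => ⟨y.1⁻¹, by
        have := y.2
        simp only [hS, Finset.mem_filter, Finset.mem_univ, true_and] at this ⊢
        rw [← mul_inv_rev, this]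
        exact inv_eq_of_mul_eq_one_right hzz⟩
      left_inv := fun y => Subtype.ext (inv_inv _)
      right_inv := fun y => Subtype.ext (inv_inv _) }
  have hι : ι ^ 2 ^ 1 = 1 := by
    refine Equiv.ext fun y => Subtype.ext ?_
    rw [pow_one, pow_two, Equiv.Perm.mul_apply]
    exact inv_inv _
  have h2 := Equiv.Perm.card_compl_support_modEq (n := 1) (p := 2) hι
  have hsupp2 : ι.supportᶜ = ∅ := by
    refine Finset.eq_empty_of_forall_notMem fun y hy => ?_
    rw [Finset.mem_compl, Equiv.Perm.mem_support, not_not] at hy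
    have hy2 := y.2
    simp only [hS, Finset.mem_filter, Finset.mem_univ, true_and] at hy2
    have e : (y : P)⁻¹ = y := congrArg Subtype.val hy
    have : (y : P) * y = 1 := by
      conv_lhs => arg 1; rw [← e]
      rw [inv_mul_cancel]
    exact hz1 (hy2.symm.trans this)
  rw [hsupp2, Finset.card_empty] at h2
  have h2' : 2 ∣ Fintype.card {y // y ∈ S} := (Nat.modEq_zero_iff_dvd).1 h2.symm
  rw [Fintype.card_coe] at h7' h2'
  -- the set is not empty
  have hne : S.Nonempty := by
    obtain ⟨y, -, hy⟩ := Finset.exists_mem_notMem_of_card_lt_card (s := ({1, z} : Finset P)) (t := Finset.univ) (by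
      rw [Finset.card_univ, ← Nat.card_eq_fintype_card, hc]
      exact lt_of_le_of_lt Finset.card_le_two (by norm_num))
    simp only [Finset.mem_insert, Finset.mem_singleton, not_or] at hy
    obtain ⟨j, hj, hj'⟩ := (Nat.dvd_prime_pow Nat.prime_two).1
      (show orderOf y ∣ 2 ^ 4 by rw [show (2 : ℕ) ^ 4 = 16 from rfl, ← hc]; exact orderOf_dvd_natCard y)
    have hyj : y ^ 2 ^ j = 1 := hj' ▸ pow_orderOf_eq_one y
    rcases Nat.lt_or_ge j 2 with h | h
    · exfalso
      have : y * y = 1 := by
        interval_cases j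
        · simp only [pow_zero, pow_one] at hyj; rw [hyj, one_mul]
        · rwa [pow_one, pow_two] at hyj
      exact (hzu y this).elim hy.1 hy.2
    refine ⟨y ^ 2 ^ (j - 2), Finset.mem_filter.2 ⟨Finset.mem_univ _, ?_⟩⟩
    rw [← pow_add, ← two_mul, ← pow_succ']
    have hne1 : y ^ 2 ^ (j - 2 + 1) ≠ 1 := fun h1 => by
      have := (hj' ▸ orderOf_dvd_of_pow_eq_one h1 : 2 ^ j ∣ 2 ^ (j - 2 + 1))
      have := Nat.le_of_dvd (by positivity) this
      have := (Nat.pow_le_pow_iff_right (le_refl 2)).1 this
      omega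
    refine (hzu _ ?_).resolve_left hne1
    rw [← pow_add, ← two_mul, ← pow_succ', show j - 2 + 1 + 1 = j by omega, hyj]
  have hcard : S.card ≤ 14 := by
    have hd : Disjoint S ({1, z} : Finset P) := by
      rw [Finset.disjoint_left]
      intro y hy hy'
      simp only [hS, Finset.mem_filter, Finset.mem_univ, true_and] at hy
      simp only [Finset.mem_insert, Finset.mem_singleton] at hy'
      rcases hy' with rfl | rfl
      · rw [one_mul] at hy; exact hz1 hy.symm
      · rw [hzz] at hy; exact hz1 hy.symm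
    have h1 := Finset.card_le_univ (S ∪ {1, z})
    rw [Finset.card_union_of_disjoint hd, Finset.card_pair hz1.symm, ← Nat.card_eq_fintype_card, hc] at h1
    omega
  have hpos := hne.card_pos
  have h14 : S.card = 14 := by omega
  have hall : ∀ y : P, y ≠ 1 → y ≠ z → y * y = z := by
    intro y h1 hz
    by_contra hy
    have hd : S ∪ {1, z} = Finset.univ.erase y → False := fun h => by
      have := congrArg Finset.card h
      have hd : Disjoint S ({1, z} : Finset P) := by
        rw [Finset.disjoint_left]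
        intro w hw hw'
        simp only [hS, Finset.mem_filter, Finset.mem_univ, true_and] at hw
        simp only [Finset.mem_insert, Finset.mem_singleton] at hw'
        rcases hw' with rfl | rfl
        · rw [one_mul] at hw; exact hz1 hw.symm
        · rw [hzz] at hw; exact hz1 hw.symm
      rw [Finset.card_union_of_disjoint hd, Finset.card_pair hz1.symm, Finset.card_erase_of_mem (Finset.mem_univ y),
        Finset.card_univ, ← Nat.card_eq_fintype_card, hc, h14] at this
      omega
    refine hd (Finset.eq_of_subset_of_card_le (fun w hw => Finset.mem_erase.2 ⟨?_, Finset.mem_univ w⟩) ?_)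
    · rintro rfl
      rcases Finset.mem_union.1 hw with h | h
      · exact hy (Finset.mem_filter.1 h).2
      · simp [h1, hz] at h
    · have hd' : Disjoint S ({1, z} : Finset P) := by
        rw [Finset.disjoint_left]
        intro w hw hw'
        simp only [hS, Finset.mem_filter, Finset.mem_univ, true_and] at hw
        simp only [Finset.mem_insert, Finset.mem_singleton] at hw'
        rcases hw' with rfl | rfl
        · rw [one_mul] at hw; exact hz1 hw.symm
        · rw [hzz] at hw; exact hz1 hw.symm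
      rw [Finset.card_union_of_disjoint hd', Finset.card_pair hz1.symm, Finset.card_erase_of_mem (Finset.mem_univ y),
        Finset.card_univ, ← Nat.card_eq_fintype_card, hc, h14]
      omega
  -- all elements off the centre of order two anticommute
  have hzc : ∀ y : P, y * z = z * y := fun y => by
    rcases hzu (y * z * y⁻¹) (by simp [mul_assoc, ← mul_assoc z z, hzz]) with h | h
    · rw [mul_inv_eq_one, mul_eq_left] at h; exact absurd h hz1
    · rwa [mul_inv_eq_iff_eq_mul] at h
  have key : ∀ u v : P, u ≠ 1 → u ≠ z → v ≠ 1 → v ≠ z → u * v ≠ 1 → u * v ≠ z → v * u = u * v * z := by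
    intro u v hu hu' hv hv' huv huv'
    have h1 := hall _ huv huv'
    have h2 : v * u = u⁻¹ * z * v⁻¹ := by rw [← h1]; group
    have hui : u⁻¹ = u * z := inv_eq_of_mul_eq_one_right (by rw [← mul_assoc, hall u hu hu', hzz])
    have hvi : v⁻¹ = v * z := inv_eq_of_mul_eq_one_right (by rw [← mul_assoc, hall v hv hv', hzz])
    rw [h2, hui, hvi]
    simp [mul_assoc, ← mul_assoc z z, hzz]
  obtain ⟨a, -, ha⟩ := Finset.exists_mem_notMem_of_card_lt_card (s := ({1, z} : Finset P)) (t := Finset.univ) (by
    rw [Finset.card_univ, ← Nat.card_eq_fintype_card, hc]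
    exact lt_of_le_of_lt Finset.card_le_two (by norm_num))
  simp only [Finset.mem_insert, Finset.mem_singleton, not_or] at ha
  obtain ⟨b, -, hb⟩ := Finset.exists_mem_notMem_of_card_lt_card (s := ({1, z, a, a * z} : Finset P))
    (t := Finset.univ) (by
    rw [Finset.card_univ, ← Nat.card_eq_fintype_card, hc]
    exact lt_of_le_of_lt Finset.card_le_four (by norm_num))
  simp only [Finset.mem_insert, Finset.mem_singleton, not_or] at hb
  obtain ⟨c, -, hcm⟩ := Finset.exists_mem_notMem_of_card_lt_card
    (s := ({1, z, a, a * z, b, b * z, a * b, a * b * z} : Finset P)) (t := Finset.univ) (by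
    rw [Finset.card_univ, ← Nat.card_eq_fintype_card, hc]
    refine lt_of_le_of_lt ?_ (show 8 < 16 by norm_num)
    exact (Finset.card_insert_le _ _).trans (Nat.succ_le_succ ((Finset.card_insert_le _ _).trans
      (Nat.succ_le_succ ((Finset.card_insert_le _ _).trans (Nat.succ_le_succ ((Finset.card_insert_le _ _).trans
      (Nat.succ_le_succ Finset.card_le_four))))))))
  simp only [Finset.mem_insert, Finset.mem_singleton, not_or] at hcm
  obtain ⟨hb1, hbz, hba, hbaz⟩ := hb
  obtain ⟨hc1, hcz, hca, hcaz, hcb, hcbz, hcab, hcabz⟩ := hcm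
  have hinv : ∀ u : P, u ≠ 1 → u ≠ z → u⁻¹ = u * z := fun u hu hu' =>
    inv_eq_of_mul_eq_one_right (by rw [← mul_assoc, hall u hu hu', hzz])
  have hne' : ∀ u v : P, u ≠ 1 → u ≠ z → v ≠ u → v ≠ u * z → u * v ≠ 1 ∧ u * v ≠ z := fun u v hu hu' h1 h2 =>
    ⟨fun h => h2 (by rw [← hinv u hu hu']; exact (inv_eq_of_mul_eq_one_right h).symm),
     fun h => h1 (mul_left_cancel (h.trans (hall u hu hu').symm))⟩
  obtain ⟨hab1, habz⟩ := hne' a b ha.1 ha.2 hba hbaz
  obtain ⟨hbc1, hbcz⟩ := hne' b c hb1 hbz hcb hcbz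
  obtain ⟨hac1, hacz⟩ := hne' a c ha.1 ha.2 hca hcaz
  have hba' := key a b ha.1 ha.2 hb1 hbz hab1 habz
  have hca' := key a c ha.1 ha.2 hc1 hcz hac1 hacz
  have habc : a * (b * c) ≠ 1 ∧ a * (b * c) ≠ z := by
    rw [← mul_assoc]
    exact hne' (a * b) c hab1 habz hcab hcabz
  have hbca := key a (b * c) ha.1 ha.2 hbc1 hbcz habc.1 habc.2
  have h1 : b * c * a = a * (b * c) := by
    rw [mul_assoc b c a, hca', ← mul_assoc b, ← mul_assoc b, hba', mul_assoc (a * b), ← hzc c,
      ← mul_assoc (a * b), mul_assoc (a * b * c), hzz, mul_one, mul_assoc]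
  rw [h1] at hbca
  exact hz1 (mul_eq_left.1 hbca.symm)

variable (hρ : Function.Injective ρ) (htrans : ∀ v w : V, v ≠ 0 → w ≠ 0 → ∃ g : G, ρ g v = w)
  (hst : ∀ v : V, v ≠ 0 → ∀ g : G, ρ g v = v → ∃ j : ℕ, g ^ q ^ j = 1)
include hρ htrans hst

set_option maxHeartbeats 2000000 in
/-- The exceptional planes. -/
theorem not_dvd_plane [Group.IsSolvable G] (hn : Module.finrank (ZMod q) V = 2)
    (hq5 : q = 5 ∨ q = 7 ∨ q = 11 ∨ q = 23) : ¬ q ∣ Nat.card G := by
  classical
  intro hd
  obtain ⟨x, hx⟩ := exists_prime_orderOf_dvd_card' q hd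
  obtain ⟨r, hr, hrd, hrq, -, hmove⟩ := exists_moved hρ htrans hst hq.out (pCore_eq_bot hρ htrans) x hx
  haveI : Fact r.Prime := ⟨hr⟩
  obtain ⟨e, d, he, hed, hde, hmod, hcen, htwo, hFx⟩ := core_count hρ htrans hst hrq x (hx ▸ pow_orderOf_eq_one x)
  rw [hn] at hed hrd
  have hne : d ≠ e := fun h => hmove (hcen h)
  have hpow : ∀ {p k : ℕ}, p.Prime → r ∣ p ^ k → r = p := fun hp h =>
    (Nat.prime_dvd_prime_iff_eq hr hp).1 (hr.dvd_of_dvd_pow h)
  have hb : ∀ n : ℕ, ¬ r ^ (n + 1) ∣ q ^ 2 - 1 → e ≤ n := fun n h => by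
    by_contra hlt
    exact h ((pow_dvd_pow r (by omega)).trans hed)
  rcases hq5 with rfl | rfl | rfl | rfl
  · rcases (hr.dvd_mul.1 (show r ∣ 2 ^ 3 * 3 ^ 1 by simpa using hrd)).imp (hpow Nat.prime_two) (hpow Nat.prime_three) with rfl | rfl
    · have := hb 3 (by norm_num); have := htwo rfl
      interval_cases e <;> interval_cases d <;> simp_all [Nat.ModEq]
    · have := hb 1 (by norm_num)
      interval_cases e <;> interval_cases d <;> simp_all [Nat.ModEq]
  · rcases (hr.dvd_mul.1 (show r ∣ 2 ^ 4 * 3 ^ 1 by simpa using hrd)).imp (hpow Nat.prime_two) (hpow Nat.prime_three) with rfl | rfl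
    · have := hb 4 (by norm_num); have := htwo rfl
      obtain ⟨rfl, rfl⟩ : e = 4 ∧ d = 1 := by
        interval_cases e <;> interval_cases d <;> simp_all [Nat.ModEq]
      set P := Cfsg.pCore 2 G
      haveI : P.Normal := by infer_instance
      have hP : Nat.card P = 16 := by rw [he]; norm_num
      obtain ⟨z, hz⟩ := exists_prime_orderOf_dvd_card' (G := P) 2 (by rw [hP]; norm_num)
      have hzz : z * z = 1 := by rw [← pow_two]; exact hz ▸ pow_orderOf_eq_one z
      have hz1 : z ≠ 1 := fun h => by simp [h] at hz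
      have hzu : ∀ y : P, y * y = 1 → y = 1 ∨ y = z := by
        intro y hy
        by_cases hy1 : y = 1
        · exact Or.inl hy1
        refine Or.inr (Subtype.ext (hρ (LinearEquiv.ext fun v => ?_)))
        rw [involution_eq hρ htrans hst Nat.prime_two hrq _ y.2 (by simpa using congrArg Subtype.val hy)
            (fun h => hy1 (Subtype.ext h)),
          involution_eq hρ htrans hst Nat.prime_two hrq _ z.2 (by simpa using congrArg Subtype.val hzz)
            (fun h => hz1 (Subtype.ext h))]
      let σ : MulAut P := restrictConj P x fun b hb => Subgroup.Normal.conj_mem inferInstance b hb x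
      refine no_seven hP z hzu hz1 hzz σ (MulEquiv.ext fun b => Subtype.ext ?_) fun y hy => ?_
      · have hp : ∀ j : ℕ, (((σ ^ j) b : P) : G) = x ^ j * b * (x ^ j)⁻¹ := fun j => by
          induction j with
          | zero => simp
          | succ j ih => rw [pow_succ', MulAut.mul_apply, restrictConj_coe, ih, pow_succ']; group
        rw [hp, ← hx, pow_orderOf_eq_one]; simp
      · set Fx := (Subgroup.centralizer ({x} : Set G)).subgroupOf P
        have hyF : y ∈ Fx := by
          rw [Subgroup.mem_subgroupOf, Subgroup.mem_centralizer_singleton_iff]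
          have := congrArg Subtype.val hy
          rw [restrictConj_coe] at this
          exact (mul_inv_eq_iff_eq_mul.mp this).symm
        refine hzu y ?_
        have h2 : (⟨y, hyF⟩ : Fx) ^ 2 = 1 := by
          rw [show 2 = Nat.card Fx by rw [hFx]; norm_num]
          exact pow_card_eq_one'
        rw [← pow_two]
        exact congrArg Subtype.val h2
    · have := hb 1 (by norm_num)
      interval_cases e <;> interval_cases d <;> simp_all [Nat.ModEq]
  · rcases (hr.dvd_mul.1 (show r ∣ 2 ^ 3 * (3 ^ 1 * 5 ^ 1) by simpa using hrd)).imp (hpow Nat.prime_two)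
      (fun h => (hr.dvd_mul.1 h).imp (hpow Nat.prime_three) (hpow (show Nat.Prime 5 by norm_num))) with rfl | rfl | rfl
    · have := hb 3 (by norm_num)
      interval_cases e <;> interval_cases d <;> simp_all [Nat.ModEq]
    · have := hb 1 (by norm_num)
      interval_cases e <;> interval_cases d <;> simp_all [Nat.ModEq]
    · have := hb 1 (by norm_num)
      interval_cases e <;> interval_cases d <;> simp_all [Nat.ModEq]
  · rcases (hr.dvd_mul.1 (show r ∣ 2 ^ 4 * (3 ^ 1 * 11 ^ 1) by simpa using hrd)).imp (hpow Nat.prime_two)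
      (fun h => (hr.dvd_mul.1 h).imp (hpow Nat.prime_three) (hpow (show Nat.Prime 11 by norm_num))) with rfl | rfl | rfl
    · have := hb 4 (by norm_num)
      interval_cases e <;> interval_cases d <;> simp_all [Nat.ModEq]
    · have := hb 1 (by norm_num)
      interval_cases e <;> interval_cases d <;> simp_all [Nat.ModEq]
    · have := hb 1 (by norm_num)
      interval_cases e <;> interval_cases d <;> simp_all [Nat.ModEq]

/-- The space of eighty-one vectors. -/
theorem not_dvd_eightyOne [Group.IsSolvable G] (hq3 : q = 3) (hn : Module.finrank (ZMod q) V = 4) :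
    ¬ q ∣ Nat.card G := by
  classical
  subst hq3
  intro hd
  haveI : Fact (Nat.Prime 5) := ⟨by norm_num⟩
  haveI : Fact (Nat.Prime 2) := ⟨Nat.prime_two⟩
  have hprim : ∀ i, 1 ≤ i → i < Module.finrank (ZMod 3) V → ¬ 5 ∣ 3 ^ i - 1 := by
    intro i h1 h2; rw [hn] at h2; interval_cases i <;> norm_num
  obtain ⟨a, ha⟩ := card_eq hρ htrans hst
  obtain ⟨x, hx⟩ := exists_prime_orderOf_dvd_card' 3 hd
  -- the five-core is trivial
  have h5 : Cfsg.pCore 5 G = ⊥ := by
    by_contra hne
    obtain ⟨e, d, he, hed, hde, hmod, hcen, -, -⟩ := core_count hρ htrans hst (by norm_num) x (r := 5)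
      (hx ▸ pow_orderOf_eq_one x)
    rw [hn] at hed
    have he1 : e ≤ 1 := by
      by_contra hlt
      have := (pow_dvd_pow 5 (show 2 ≤ e by omega)).trans hed
      norm_num at this
    have heq : d = e := by interval_cases e <;> interval_cases d <;> simp_all [Nat.ModEq]
    have he0 : e ≠ 0 := fun h0 => hne (Subgroup.eq_bot_of_card_eq _ (by rw [he, h0, pow_zero]))
    obtain ⟨y, hy⟩ := exists_prime_orderOf_dvd_card' (G := Cfsg.pCore 5 G) 5 (he ▸ dvd_pow_self 5 he0)
    have hyG : orderOf (y : G) = 5 := by rw [Subgroup.orderOf_coe, hy]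
    have hc := hcen heq y y.2
    let T : Module.End (ZMod 3) V := (ρ x).toLinearMap - LinearMap.id
    have hTy : ∀ v, T (ρ (y : G) v) = ρ (y : G) (T v) := fun v => by
      show ρ x (ρ (y : G) v) - ρ (y : G) v = ρ (y : G) (ρ x v - v)
      rw [map_sub, ← LinearEquiv.mul_apply, ← map_mul, hc, map_mul, LinearEquiv.mul_apply]
    rcases irreducible_of_primitive hρ hyG (by norm_num) hprim (LinearMap.ker T) (fun w hw => by
      rw [LinearMap.mem_ker] at hw ⊢
      rw [hTy, hw, map_zero]) with h | h
    · -- a cube root of unity fixes a non-zero vector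
      have hp : IsPGroup 3 (Subgroup.zpowers x) := IsPGroup.of_card (n := 1) (by rw [Nat.card_zpowers, hx, pow_one])
      letI : MulAction (Subgroup.zpowers x) V := MulAction.compHom V
        (((LinearEquiv.automorphismGroup.toLinearMapMonoidHom).comp ρ).comp (Subgroup.zpowers x).subtype)
      have hs : ∀ (b : Subgroup.zpowers x) (v : V), b • v = ρ (b : G) v := fun _ _ => rfl
      obtain ⟨v, hv, hv0⟩ := hp.exists_fixed_point_of_prime_dvd_card_of_fixed_point V
        (by rw [Module.natCard_eq_pow_finrank (K := ZMod 3), Nat.card_zmod, hn]; norm_num)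
        (a := 0) (fun b => by rw [hs, map_zero])
      have : v ∈ LinearMap.ker T := by
        rw [LinearMap.mem_ker]
        show ρ x v - v = 0
        rw [sub_eq_zero]
        exact hv ⟨x, Subgroup.mem_zpowers x⟩
      rw [h, Submodule.mem_bot] at this
      exact hv0 this.symm
    · have hx1 : x = 1 := hρ (LinearEquiv.ext fun v => by
        have : v ∈ LinearMap.ker T := h ▸ Submodule.mem_top
        rw [map_one]
        exact sub_eq_zero.1 (LinearMap.mem_ker.1 this))
      simp [hx1] at hx
  obtain ⟨y, hy⟩ := exists_prime_orderOf_dvd_card' (G := G) 5 (by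
    rw [ha, hn]; exact Dvd.dvd.mul_right (by norm_num) _)
  obtain ⟨r, hr, hrd, hrq, hr5, hmove⟩ := exists_moved hρ htrans hst (Fact.out : Nat.Prime 5) h5 y hy
  rw [hn] at hrd
  obtain rfl : r = 2 := by
    rcases hr.dvd_mul.1 (show r ∣ 2 ^ 4 * 5 ^ 1 by simpa using hrd) with h | h
    · exact (Nat.prime_dvd_prime_iff_eq hr Nat.prime_two).1 (hr.dvd_of_dvd_pow h)
    · exact absurd ((Nat.prime_dvd_prime_iff_eq hr (by norm_num)).1 (hr.dvd_of_dvd_pow h)) hr5
  obtain ⟨e, d, he, hed, hde, hmod, hcen, htwo, -⟩ := core_count hρ htrans hst hrq y (hy ▸ pow_orderOf_eq_one y)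
  rw [hn] at hed
  have he4 : e ≤ 4 := by
    by_contra hlt
    have := (pow_dvd_pow 2 (show 5 ≤ e by omega)).trans hed
    norm_num at this
  have := htwo rfl
  refine hmove (hcen ?_)
  interval_cases e <;> interval_cases d <;> simp_all [Nat.ModEq]

/-- The nine-vector plane. -/
theorem nine_case [Group.IsSolvable G] (hq3 : q = 3) (hn : Module.finrank (ZMod q) V = 2) :
    Cfsg.HasNormalPComplement q G ∧ ∀ Q : Sylow q G, IsMulCommutative (Q : Subgroup G) := by
  classical
  subst hq3
  haveI : Fact (Nat.Prime 2) := ⟨Nat.prime_two⟩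
  obtain ⟨a, ha⟩ := card_eq hρ htrans hst
  rw [hn] at ha
  have ha1 : a ≤ 1 := by
    haveI : Finite (V ≃ₗ[ZMod 3] V) := Finite.of_injective (fun e => (e : V → V)) DFunLike.coe_injective
    have e1 : (V ≃ₗ[ZMod 3] V) ≃* GL (Fin 2) (ZMod 3) :=
      ((LinearMap.GeneralLinearGroup.generalLinearEquiv (ZMod 3) V).symm.trans
        (Units.mapEquiv (LinearEquiv.conjAlgEquiv (ZMod 3) (LinearEquiv.ofFinrankEq V (Fin 2 → ZMod 3)
          (by rw [hn, Module.finrank_fin_fun]))).toMulEquiv)).trans
        (Units.mapEquiv LinearMap.toMatrixAlgEquiv'.toMulEquiv)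
    have h := Subgroup.card_dvd_of_injective ρ hρ
    rw [Nat.card_congr e1.toEquiv, Matrix.card_GL_field, Fin.prod_univ_two, ZMod.card, ha] at h
    by_contra hlt
    have := (Dvd.dvd.mul_left (pow_dvd_pow 3 (show 2 ≤ a by omega)) _).trans h
    norm_num at this
  refine ⟨?_, fun Q => ?_⟩
  · by_cases ha0 : a = 0
    · refine complement_of 3 ⊤ ?_ fun r hr h => ?_
      · rw [Subgroup.card_top, ha, ha0]; norm_num
      · rw [Subgroup.index_top] at h; exact absurd (Nat.dvd_one.1 h) hr.ne_one
    obtain ⟨x, hx⟩ := exists_prime_orderOf_dvd_card' (G := G) 3 (by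
      rw [ha]; exact Dvd.dvd.mul_left (dvd_pow_self 3 ha0) _)
    obtain ⟨r, hr, hrd, hrq, -, hmove⟩ := exists_moved hρ htrans hst Fact.out (pCore_eq_bot hρ htrans) x hx
    rw [hn] at hrd
    obtain rfl : r = 2 := (Nat.prime_dvd_prime_iff_eq hr Nat.prime_two).1
      (hr.dvd_of_dvd_pow (show r ∣ 2 ^ 3 by simpa using hrd))
    obtain ⟨e, d, he, hed, hde, hmod, hcen, htwo, -⟩ := core_count hρ htrans hst hrq x (hx ▸ pow_orderOf_eq_one x)
    rw [hn] at hed
    have he3 : e ≤ 3 := by
      by_contra hlt
      have := (pow_dvd_pow 2 (show 4 ≤ e by omega)).trans hed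
      norm_num at this
    have hne : d ≠ e := fun h => hmove (hcen h)
    have := htwo rfl
    obtain rfl : e = 3 := by interval_cases e <;> interval_cases d <;> simp_all [Nat.ModEq]
    haveI : (Cfsg.pCore 2 G).Normal := by infer_instance
    refine complement_of 3 (Cfsg.pCore 2 G) (by rw [he]; norm_num) fun r hr h => ?_
    have h1 := (Cfsg.pCore 2 G).card_mul_index
    rw [he, ha] at h1
    have h2 : (Cfsg.pCore 2 G).index = 3 ^ a := by norm_num at h1; omega
    exact (Nat.prime_dvd_prime_iff_eq hr Nat.prime_three).1 (hr.dvd_of_dvd_pow (h2 ▸ h))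
  · have hQ := Q.card_eq_multiplicity
    rw [ha] at hQ
    haveI : IsCyclic (Q : Subgroup G) := by
      rcases (show a = 0 ∨ a = 1 by omega) with rfl | rfl
      · haveI : Subsingleton (Q : Subgroup G) := (Nat.card_eq_one_iff_unique.mp (hQ.trans (by
          rw [Nat.factorization_eq_zero_of_not_dvd (by norm_num), pow_zero]))).1
        infer_instance
      · refine isCyclic_of_prime_card (p := 3) (hQ.trans ?_)
        rw [Nat.factorization_mul (by norm_num) (by norm_num), Finsupp.add_apply,
          Nat.factorization_eq_zero_of_not_dvd (by norm_num), zero_add, pow_one,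
          Nat.Prime.factorization_self (by norm_num), pow_one]
    exact ⟨⟨IsCyclic.commGroup.mul_comm⟩⟩

/-- Normal complement and abelian Sylow subgroups. -/
theorem complement_and_abelian [Group.IsSolvable G] :
    Cfsg.HasNormalPComplement q G ∧ ∀ Q : Sylow q G, IsMulCommutative (Q : Subgroup G) := by
  classical
  have hV : Nat.card V = q ^ Module.finrank (ZMod q) V := by
    rw [Module.natCard_eq_pow_finrank (K := ZMod q), Nat.card_zmod]
  have hcop : ¬ q ∣ Nat.card G →
      Cfsg.HasNormalPComplement q G ∧ ∀ Q : Sylow q G, IsMulCommutative (Q : Subgroup G) := fun h => by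
    refine ⟨complement_of q ⊤ (by rwa [Subgroup.card_top]) fun r hr hd => ?_, fun Q => ?_⟩
    · rw [Subgroup.index_top] at hd; exact absurd (Nat.dvd_one.1 hd) hr.ne_one
    · haveI : Subsingleton (Q : Subgroup G) := (Nat.card_eq_one_iff_unique.mp (by
        rw [Q.card_eq_multiplicity, Nat.factorization_eq_zero_of_not_dvd h, pow_zero])).1
      exact ⟨⟨fun a b => Subsingleton.elim _ _⟩⟩
  rcases Nat.lt_or_ge 2 (Module.finrank (ZMod q) V) with h3 | h3
  · rcases semi_or_81 hρ htrans h3 with h | h
    · exact semi_case hρ h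
    · rw [hV] at h
      have hqd : q ∣ 3 ^ 4 := by rw [show (3 : ℕ) ^ 4 = 81 from rfl, ← h]; exact dvd_pow_self q (by omega)
      have hq3 : q = 3 := (Nat.prime_dvd_prime_iff_eq hq.out Nat.prime_three).1 (hq.out.dvd_of_dvd_pow hqd)
      subst hq3
      have hn : Module.finrank (ZMod 3) V = 4 := Nat.pow_right_injective (le_refl 3 |>.trans' (by norm_num)) (h.trans (by norm_num))
      exact hcop (not_dvd_eightyOne hρ htrans hst rfl hn)
  rcases Nat.lt_or_ge 1 (Module.finrank (ZMod q) V) with h1 | h1
  · have hn : Module.finrank (ZMod q) V = 2 := by omega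
    rcases two_dim hρ htrans hn with h | h
    · exact semi_case hρ h
    · simp only [Set.mem_insert_iff, Set.mem_singleton_iff] at h
      rcases h with h | h
      · exact nine_case hρ htrans hst h hn
      · exact hcop (not_dvd_plane hρ htrans hst hn h)
  · refine semi_case hρ (semi_of_comm hρ htrans ⊥ (fun a ha b hb => ?_) fun i hi hin => by omega)
    rw [Subgroup.mem_bot.mp ha, Subgroup.mem_bot.mp hb]

end CfsgLib.TwoNonzeroClasses
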