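import Cfsg.Prelude.Def_Characters
import Cfsg.Agent.Lib.CharTheory.Irr
import Cfsg.Agent.Lib.CharTheory.Linear
import Cfsg.Agent.Lib.Blocks.Central

/-!
An irreducible character that is nonzero on exactly two classes.
-/

set_option autoImplicit false
set_option linter.style.haveILetI false

namespace CfsgLib.TwoNonzeroClasses

open Cfsg CfsgLib.CharTheory
open scoped ComplexConjugate

variable {G : Type*} [Group G] [Finite G]

/-- The data attached to such a character. -/
theorem data (hG : 2 < Nat.card G) (χ : IrrCharacter G)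
    (hχ : Nat.card {C : ConjClasses G // ∃ g ∈ C.carrier, (χ : G → ℂ) g ≠ 0} = 2) :
    ∃ (N : Subgroup G) (x : G), N.Normal ∧ x ∈ N ∧ x ≠ 1 ∧ (∀ y ∈ N, y = 1 ∨ IsConj x y) ∧
      (∀ M : Subgroup G, M.Normal → M ≠ ⊥ → N ≤ M) ∧ (∀ g : G, g ∉ N → (χ : G → ℂ) g = 0) ∧
      (χ : G → ℂ) 1 + ((Nat.card N - 1 : ℕ) : ℂ) * (χ : G → ℂ) x = 0 ∧
      (χ : G → ℂ) 1 ^ 2 + ((Nat.card N - 1 : ℕ) : ℂ) * (χ : G → ℂ) x ^ 2 = (Nat.card G : ℂ) := by
  classical
  haveI : Fintype G := Fintype.ofFinite G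
  set f : G → ℂ := (χ : G → ℂ) with hf
  have hcl := isClassFunction_iff_isConj.1 (isClassFunction_irr χ.2)
  have hch := isCharacter_of_irr χ.2
  have hd0 : f 1 ≠ 0 := CfsgLib.Blocks.irr_one_ne_zero χ
  -- the second class
  haveI : Fintype (ConjClasses G) := Fintype.ofFinite _
  rw [Nat.card_eq_two_iff] at hχ
  obtain ⟨⟨C₁, hC₁⟩, ⟨C₂, hC₂⟩, hne, hall⟩ := hχ
  obtain ⟨x, hx1, hxf, hxall⟩ : ∃ x : G, x ≠ 1 ∧ f x ≠ 0 ∧ ∀ g, f g ≠ 0 → g = 1 ∨ IsConj x g := by
    have h1 : ∃ g ∈ (ConjClasses.mk (1 : G)).carrier, (χ : G → ℂ) g ≠ 0 :=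
      ⟨1, ConjClasses.mem_carrier_mk, hd0⟩
    have hmem : ∀ g, f g ≠ 0 → ConjClasses.mk g = C₁ ∨ ConjClasses.mk g = C₂ := fun g hg => by
      have := hall.ge (Set.mem_univ (⟨ConjClasses.mk g, g, ConjClasses.mem_carrier_mk, hg⟩ :
        {C : ConjClasses G // ∃ g ∈ C.carrier, (χ : G → ℂ) g ≠ 0}))
      simpa [Subtype.ext_iff] using this
    have hne' : C₁ ≠ C₂ := fun h => hne (Subtype.ext h)
    obtain ⟨D, hD, hD1, hDall⟩ : ∃ D : ConjClasses G, (∃ g ∈ D.carrier, (χ : G → ℂ) g ≠ 0) ∧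
        D ≠ ConjClasses.mk 1 ∧ ∀ g, f g ≠ 0 → ConjClasses.mk g = ConjClasses.mk 1 ∨ ConjClasses.mk g = D := by
      rcases hmem 1 hd0 with h | h
      · exact ⟨C₂, hC₂, fun e => hne' (h.symm.trans e.symm), fun g hg => (hmem g hg).imp_left (·.trans h.symm)⟩
      · exact ⟨C₁, hC₁, fun e => hne' (e.trans h), fun g hg => ((hmem g hg).symm).imp_left (·.trans h.symm)⟩
    obtain ⟨x, hxD, hx⟩ := hD
    have hxD' : ConjClasses.mk x = D := ConjClasses.mem_carrier_iff_mk_eq.1 hxD
    refine ⟨x, fun e => hD1 (by rw [← hxD', e]), hx, fun g hg => (hDall g hg).imp (fun e => ?_) fun e => ?_⟩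
    · exact isConj_one_right.1 (ConjClasses.mk_eq_mk_iff_isConj.1 e.symm)
    · exact ConjClasses.mk_eq_mk_iff_isConj.1 (hxD'.trans e.symm)
  -- sums against the character
  set S : Finset G := Finset.univ.filter (fun g => IsConj x g) with hS
  have hsum : ∀ φ : G → ℂ, (∀ g, f g = 0 → φ g = 0) → (∀ g, IsConj x g → φ g = φ x) →
      ∑ g, φ g = φ 1 + (S.card : ℂ) * φ x := by
    intro φ h0 hc
    have h1 : (1 : G) ∉ S := by
      simp only [hS, Finset.mem_filter, Finset.mem_univ, true_and]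
      exact fun h => hx1 (isConj_one_left.1 h)
    rw [← Finset.sum_subset (Finset.subset_univ (insert 1 S)) (fun g _ hg => ?_),
      Finset.sum_insert h1, Finset.sum_congr rfl (fun g hg => hc g (Finset.mem_filter.1 hg).2),
      Finset.sum_const, nsmul_eq_mul]
    refine h0 g (by_contra fun h => hg ?_)
    rcases hxall g h with e | e
    · exact Finset.mem_insert.2 (Or.inl e)
    · exact Finset.mem_insert.2 (Or.inr (Finset.mem_filter.2 ⟨Finset.mem_univ _, e⟩))
  have hone : f ≠ fun _ => 1 := by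
    intro h
    have huniv : (Finset.univ : Finset (ConjClasses G)) ⊆ {ConjClasses.mk 1, ConjClasses.mk x} := fun C _ => by
      obtain ⟨g, rfl⟩ := ConjClasses.exists_rep C
      rcases hxall g (by rw [h]; exact one_ne_zero) with e | e
      · simp [e]
      · simp [ConjClasses.mk_eq_mk_iff_isConj.2 e]
    have hinner : ∀ y : G, y = 1 ∨ IsConj x y := fun y => hxall y (by rw [h]; exact one_ne_zero)
    -- every non-identity element is conjugate to `x`
    have hcl' : S.card = Nat.card G - 1 := by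
      rw [show S = Finset.univ.erase 1 from Finset.ext fun g => by
        simp only [hS, Finset.mem_filter, Finset.mem_univ, true_and, Finset.mem_erase, and_true]
        exact ⟨fun hg e => hx1 (isConj_one_left.1 (e ▸ hg)), fun hg => (hinner g).resolve_left hg⟩,
        Finset.card_erase_of_mem (Finset.mem_univ _), Finset.card_univ, Nat.card_eq_fintype_card]
    have hdvd : S.card ∣ Nat.card G := by
      refine ⟨Nat.card (Subgroup.centralizer ({x} : Set G)), ?_⟩
      rw [show S.card = Nat.card {y : G // IsConj x y} by rw [Nat.card_eq_fintype_card, Fintype.card_subtype],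
        card_isConj_mul_card_centralizer]
    rw [hcl'] at hdvd
    have := Nat.dvd_sub hdvd (dvd_refl (Nat.card G - 1))
    rw [show Nat.card G - (Nat.card G - 1) = 1 by omega, Nat.dvd_one] at this
    omega
  have hG0 : (Nat.card G : ℂ) ≠ 0 := Nat.cast_ne_zero.2 Nat.card_pos.ne'
  have horth : ∀ ψ : IrrCharacter G, (ψ : G → ℂ) ≠ f →
      f 1 * (ψ : G → ℂ) 1 + (S.card : ℂ) * (f x * conj ((ψ : G → ℂ) x)) = 0 := by
    intro ψ hψ
    have h := classInner_irr_ne χ.2 ψ.2 (Ne.symm hψ)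
    rw [classInner, mul_eq_zero, inv_eq_zero] at h
    have h' := h.resolve_left hG0
    rw [hsum _ (fun g hg => by show f g * _ = 0; rw [hg, zero_mul]) (fun g hg => by
      rw [← hcl x g hg, ← isClassFunction_iff_isConj.1 (isClassFunction_irr ψ.2) x g hg])] at h'
    have hc1 : conj ((ψ : G → ℂ) 1) = (ψ : G → ℂ) 1 := by
      rw [← char_apply_inv (isCharacter_of_irr ψ.2), inv_one]
    rwa [hc1] at h'
  have hψx : ∀ ψ : IrrCharacter G, (ψ : G → ℂ) ≠ f → (ψ : G → ℂ) x = (ψ : G → ℂ) 1 := by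
    intro ψ hψ
    have h1 := horth ⟨_, isIrrCharacter_one⟩ (Ne.symm hone)
    simp only [mul_one, map_one] at h1
    have h2 := horth ψ hψ
    have h3 : ((S.card : ℂ) * f x) * (conj ((ψ : G → ℂ) x) - (ψ : G → ℂ) 1) = 0 := by
      linear_combination h2 - (ψ : G → ℂ) 1 * h1
    have h4 : conj ((ψ : G → ℂ) x) = (ψ : G → ℂ) 1 := by
      rcases mul_eq_zero.1 h3 with h | h
      · exfalso
        rcases mul_eq_zero.1 h with h | h
        · have : x ∈ S := Finset.mem_filter.2 ⟨Finset.mem_univ _, IsConj.refl x⟩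
          rw [Nat.cast_eq_zero, Finset.card_eq_zero] at h
          simp [h] at this
        · exact hxf h
      · exact sub_eq_zero.1 h
    have hc1 : conj ((ψ : G → ℂ) 1) = (ψ : G → ℂ) 1 := by
      rw [← char_apply_inv (isCharacter_of_irr ψ.2), inv_one]
    rw [← Complex.conj_conj ((ψ : G → ℂ) x), h4, hc1]
  let N : Subgroup G := ⨅ ψ : {ψ : IrrCharacter G // (ψ : G → ℂ) ≠ f},
    charKernel (ψ.1 : G → ℂ) (isCharacter_of_irr ψ.1.2)
  have hmemN : ∀ g, g ∈ N ↔ ∀ ψ : IrrCharacter G, (ψ : G → ℂ) ≠ f → (ψ : G → ℂ) g = (ψ : G → ℂ) 1 := by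
    intro g
    simp only [N, Subgroup.mem_iInf, CfsgLib.CharTheory.mem_charKernel]
    exact ⟨fun h ψ hψ => h ⟨ψ, hψ⟩, fun h ψ => h ψ.1 ψ.2⟩
  have hNn : N.Normal := ⟨fun n hn g => (hmemN _).2 fun ψ hψ => by
    rw [isClassFunction_irr ψ.2 n g]
    exact (hmemN n).1 hn ψ hψ⟩
  have hxN : x ∈ N := (hmemN x).2 hψx
  have hNsub : ∀ g ∈ N, g = 1 ∨ IsConj x g := by
    intro g hg
    by_contra hcon
    have hfg : f g = 0 := by_contra fun h => hcon (hxall g h)
    have hg1 : g ≠ 1 := fun h => hcon (Or.inl h)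
    have h := sum_irr_apply_mul_degree g
    rw [if_neg hg1] at h
    have h' : ∑ ψ : IrrCharacter G, (if (ψ : G → ℂ) = f then (0 : ℝ) else ‖(ψ : G → ℂ) 1‖ ^ 2) = 0 := by
      have hc : ((∑ ψ : IrrCharacter G, (if (ψ : G → ℂ) = f then (0 : ℝ) else ‖(ψ : G → ℂ) 1‖ ^ 2) : ℝ) : ℂ) = 0 := by
        rw [← h, Complex.ofReal_sum]
        refine Finset.sum_congr rfl fun ψ _ => ?_
        split_ifs with hψ
        · rw [hψ, hfg, zero_mul, Complex.ofReal_zero]
        · have hc1 : conj ((ψ : G → ℂ) 1) = (ψ : G → ℂ) 1 := by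
            rw [← char_apply_inv (isCharacter_of_irr ψ.2), inv_one]
          rw [(hmemN g).1 hg ψ hψ, Complex.ofReal_pow, ← Complex.mul_conj', hc1]
      exact_mod_cast hc
    have h1 := (Finset.sum_eq_zero_iff_of_nonneg (fun ψ _ => by split_ifs <;> positivity)).1 h'
      ⟨_, isIrrCharacter_one⟩ (Finset.mem_univ _)
    rw [if_neg (Ne.symm hone)] at h1
    simp at h1
  have hcard : Nat.card N - 1 = S.card := by
    have : (insert 1 S : Finset G) = Finset.univ.filter (fun g => g ∈ N) := Finset.ext fun g => by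
      simp only [hS, Finset.mem_insert, Finset.mem_filter, Finset.mem_univ, true_and]
      refine ⟨?_, hNsub g⟩
      rintro (rfl | h)
      · exact one_mem N
      · obtain ⟨k, rfl⟩ := isConj_iff.1 h
        exact hNn.conj_mem x hxN k
    have h1 : (1 : G) ∉ S := by
      simp only [hS, Finset.mem_filter, Finset.mem_univ, true_and]
      exact fun h => hx1 (isConj_one_left.1 h)
    rw [show Nat.card N = (insert 1 S).card by rw [this, ← Fintype.card_subtype, Nat.card_eq_fintype_card],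
      Finset.card_insert_of_notMem h1, Nat.add_sub_cancel]
  have h1 := horth ⟨_, isIrrCharacter_one⟩ (Ne.symm hone)
  simp only [mul_one, map_one] at h1
  refine ⟨N, x, hNn, hxN, hx1, hNsub, fun M hM hM1 => ?_, fun g hg => ?_, by rw [hcard]; exact h1, ?_⟩
  · -- a normal subgroup missing `x` lies in the kernel of some other character
    haveI := hM
    by_contra hle
    have hxM : x ∉ M := fun hxM => hle fun g hg => by
      rcases hNsub g hg with rfl | h
      · exact one_mem M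
      · obtain ⟨k, rfl⟩ := isConj_iff.1 h
        exact hM.conj_mem x hxM k
    have hbig : ∀ ψ : IrrCharacter (G ⧸ M), (ψ : G ⧸ M → ℂ) (x : G ⧸ M) = (ψ : G ⧸ M → ℂ) 1 := by
      intro ψ
      have hψf : (fun g : G => (ψ : G ⧸ M → ℂ) (g : G ⧸ M)) ≠ f := by
        intro e
        obtain ⟨m, hm, hm1⟩ := (M.ne_bot_iff_exists_ne_one).1 hM1 |> fun ⟨m, hm⟩ => (⟨m.1, m.2, fun h => hm (Subtype.ext h)⟩ : ∃ m, m ∈ M ∧ m ≠ 1)
        have hfm : f m = f 1 := by
          rw [← congrFun e m, ← congrFun e 1]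
          show (ψ : G ⧸ M → ℂ) _ = (ψ : G ⧸ M → ℂ) _
          rw [(QuotientGroup.eq_one_iff m).2 hm]; rfl
        rcases hxall m (by rw [hfm]; exact hd0) with h | h
        · exact hm1 h
        · obtain ⟨k, rfl⟩ := isConj_iff.1 h
          exact hxM (by simpa [mul_assoc] using hM.conj_mem _ hm k⁻¹)
      exact hψx ⟨_, isIrrCharacter_comp_surjective ψ.2 (QuotientGroup.mk' M) (QuotientGroup.mk'_surjective M)⟩ hψf
    haveI : Fintype (G ⧸ M) := Fintype.ofFinite _
    have h := sum_irr_apply_mul_degree (x : G ⧸ M)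
    rw [if_neg (fun e => hxM ((QuotientGroup.eq_one_iff x).1 e))] at h
    simp only [hbig] at h
    simp only [← _root_.sq] at h
    rw [sum_irr_degree_sq] at h
    exact Nat.card_pos.ne' (Nat.cast_eq_zero.1 h)
  · by_contra h
    rcases hxall g h with rfl | h'
    · exact hg (one_mem N)
    · obtain ⟨k, rfl⟩ := isConj_iff.1 h'
      exact hg (hNn.conj_mem x hxN k)
  · have h := classInner_irr_self χ.2
    rw [classInner, inv_mul_eq_iff_eq_mul₀ hG0, mul_one] at h
    rw [hsum _ (fun g hg => by show f g * _ = 0; rw [hg, zero_mul]) (fun g hg => by rw [← hcl x g hg])] at h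
    have hc1 : conj (f 1) = f 1 := by rw [← char_apply_inv hch, inv_one]
    have hS0 : (S.card : ℂ) ≠ 0 := Nat.cast_ne_zero.2 (Finset.card_ne_zero.2
      ⟨x, Finset.mem_filter.2 ⟨Finset.mem_univ _, IsConj.refl x⟩⟩)
    have hcx : conj (f x) = f x := by
      have h2 := congrArg conj h1
      rw [map_add, map_mul, hc1, map_natCast, map_zero] at h2
      exact mul_left_cancel₀ hS0 (by linear_combination h2 - h1)
    rw [hcard]
    rw [hc1, hcx] at h
    linear_combination h

end CfsgLib.TwoNonzeroClasses
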